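import Cfsg.Agent.H347.HX.G23.Data

/-!
# `G₂(3)`: certificates for the orders of the centralizers (helper347)
-/

set_option autoImplicit false
set_option maxRecDepth 100000
set_option Elab.async false

namespace Cfsg.Agent.H347.HX.G23

/-- the base -/
def base : List ℕ := [285, 7, 304, 25, 253, 13, 284, 317, 86, 9, 29, 16, 24]

theorem sep_base : sep 364 co base = true := by decide +kernel

/-- the class functions -/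
def ts : List Ct := [⟨[(1, 0)], [], []⟩, ⟨[(1, 1)], [], []⟩, ⟨[(1, 2)], [], []⟩, ⟨[(2, 0)], [], []⟩,
  ⟨[(1, 1), (5, 2)], [], []⟩, ⟨[(1, 2), (2, 2), (3, 3), (4, 3)], [(1, 2), (2, 3), (3, 3), (4, 2)],
    [(0, 1), (1, 3), (2, 2), (3, 2), (4, 3), (5, 2), (6, 3), (7, 3), (8, 3)]⟩]

/-- class 0, elements of order 1 -/
def c0 : Cl := ⟨dg 9 511 X0, 1, [⟨18, [], [], [], 364⟩,
  ⟨12, [(18, 1)], [], [], 12⟩,
  ⟨0, [(12, 1), (18, 2)], [], [], 9⟩,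
  ⟨42, [(18, 1), (12, 1)], [], [], 2⟩,
  ⟨25, [(0, 1), (18, 3)], [], [], 9⟩,
  ⟨7, [(18, 1), (25, 3), (12, 2)], [], [], 6⟩,
  ⟨6, [(0, 1), (25, 1), (7, 2)], [], [], 1⟩,
  ⟨9, [(6, 1), (7, 2), (42, 2)], [], [], 1⟩,
  ⟨10, [(18, 1), (12, 1), (42, 1)], [], [], 1⟩,
  ⟨17, [(7, 1), (6, 1)], [], [], 1⟩,
  ⟨30, [(25, 1), (42, 2), (7, 2)], [], [], 1⟩,
  ⟨32, [(12, 2), (0, 2), (7, 2), (30, 2), (17, 3)], [], [], 1⟩,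
  ⟨33, [(0, 2), (7, 2), (17, 2), (10, 2), (32, 3)], [], [], 1⟩,
  ⟨34, [(42, 2), (25, 2), (30, 2), (9, 2), (18, 3)], [], [], 1⟩,
  ⟨37, [(0, 2), (34, 2), (42, 2), (17, 2), (18, 3), (7, 3)], [], [], 1⟩,
  ⟨38, [(34, 1), (37, 1)], [], [], 1⟩,
  ⟨39, [(18, 2), (9, 2), (0, 2), (34, 2), (30, 2)], [], [], 1⟩,
  ⟨41, [(9, 1), (12, 2), (32, 2)], [], [], 1⟩,
  ⟨43, [(10, 2), (37, 2), (0, 3), (7, 3), (9, 3), (30, 3), (32, 3), (6, 3)], [], [], 1⟩,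
  ⟨44, [(7, 1), (0, 2), (18, 2), (25, 3), (30, 3)], [], [], 1⟩,
  ⟨45, [(42, 2), (32, 2), (38, 2), (44, 2), (18, 3)], [], [], 1⟩,
  ⟨46, [(0, 1), (25, 1), (7, 3)], [], [], 1⟩,
  ⟨47, [(0, 1), (33, 1)], [], [], 1⟩,
  ⟨48, [(6, 2), (9, 2), (10, 2), (7, 3), (30, 3)], [], [], 1⟩,
  ⟨49, [(12, 2), (9, 2), (17, 2), (32, 2)], [], [], 1⟩,
  ⟨50, [(49, 1), (42, 2), (25, 2)], [], [], 1⟩,
  ⟨51, [(49, 1), (50, 1), (18, 3)], [], [], 1⟩,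
  ⟨57, [(46, 1), (43, 2), (42, 2)], [], [], 1⟩,
  ⟨59, [(12, 2), (0, 2), (43, 2), (7, 2), (17, 3)], [], [], 1⟩,
  ⟨60, [(0, 2), (47, 2), (7, 2), (17, 2)], [], [], 1⟩,
  ⟨64, [(43, 1), (0, 2), (42, 2)], [], [], 1⟩,
  ⟨65, [(64, 1), (0, 2), (18, 2)], [], [], 1⟩,
  ⟨66, [(18, 2), (9, 2), (41, 2), (47, 2)], [], [], 1⟩,
  ⟨69, [(48, 1), (57, 1)], [], [], 1⟩,
  ⟨70, [(32, 1), (34, 1)], [], [], 1⟩,
  ⟨77, [(39, 1), (34, 2), (42, 2)], [], [], 1⟩,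
  ⟨84, [(39, 1), (0, 2), (42, 3)], [], [], 1⟩,
  ⟨86, [(66, 1), (0, 2), (42, 2)], [], [], 1⟩,
  ⟨110, [(6, 1), (77, 2), (18, 3)], [], [], 1⟩,
  ⟨112, [(110, 1), (38, 2), (18, 3)], [], [], 1⟩,
  ⟨114, [(51, 1), (10, 2), (25, 2)], [], [], 1⟩,
  ⟨117, [(12, 1), (112, 1)], [], [], 1⟩,
  ⟨170, [(43, 1), (84, 1)], [], [], 1⟩,
  ⟨203, [(18, 1), (65, 1)], [], [], 1⟩,
  ⟨253, [(42, 1), (77, 1)], [], [], 1⟩,
  ⟨284, [(37, 1), (60, 1)], [], [], 1⟩,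
  ⟨285, [(57, 1), (66, 1)], [], [], 1⟩,
  ⟨304, [(69, 1), (170, 1)], [], [], 1⟩,
  ⟨317, [(70, 1), (203, 1)], [], [], 1⟩,
  ⟨13, [(43, 1), (45, 1)], [], [], 1⟩,
  ⟨29, [(43, 1), (59, 1)], [], [], 1⟩,
  ⟨16, [(32, 1), (114, 1)], [], [], 1⟩,
  ⟨24, [(45, 1), (117, 1)], [], [], 1⟩]⟩

theorem r0 : run 364 co c0.X c0.m base c0.l [] = true := by decide +kernel
theorem t0 : tb 364 fl (wr []) c0.X = true := by decide +kernel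
theorem k0 : ts.map (cnc 364 co c0.X) = [364, 0, 0, 364, 0, 0] := by decide +kernel

/-- class 1, elements of order 2 -/
def c1 : Cl := ⟨dg 9 511 X1, 2, [⟨13, [], [(1, 2)], [], 96⟩,
  ⟨20, [(13, 2), (50, 2)], [(1, 2)], [], 6⟩,
  ⟨8, [(50, 1), (20, 1)], [], [], 1⟩,
  ⟨25, [(8, 1), (13, 2), (50, 2), (20, 2), (45, 3)], [], [], 1⟩,
  ⟨32, [(13, 2), (45, 2), (20, 2)], [(1, 2)], [], 1⟩,
  ⟨33, [(20, 2), (8, 2), (45, 2), (172, 2), (32, 3)], [], [], 1⟩,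
  ⟨34, [(8, 2), (25, 2), (32, 2), (172, 2), (45, 3)], [], [], 1⟩,
  ⟨35, [(20, 2), (8, 2), (291, 2), (45, 2), (33, 3)], [], [], 1⟩,
  ⟨36, [(13, 2), (168, 2), (291, 2), (32, 2), (216, 3)], [], [], 1⟩,
  ⟨37, [(20, 1), (291, 2), (168, 3)], [], [], 1⟩,
  ⟨39, [(13, 2), (229, 2), (34, 2)], [(1, 2)], [], 1⟩,
  ⟨40, [(229, 1), (13, 2), (32, 2)], [], [], 1⟩,
  ⟨41, [(20, 2), (291, 2), (32, 2)], [(1, 1)], [], 1⟩,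
  ⟨42, [(172, 1), (50, 2), (168, 3)], [], [], 1⟩,
  ⟨43, [(13, 1), (20, 1)], [], [], 1⟩,
  ⟨48, [(40, 1), (172, 2), (50, 3)], [], [], 1⟩,
  ⟨57, [(13, 1), (25, 2), (33, 3)], [], [], 1⟩,
  ⟨59, [(168, 1), (50, 2), (13, 3)], [], [], 1⟩,
  ⟨60, [(35, 1), (169, 1)], [], [], 1⟩,
  ⟨61, [(32, 1), (36, 2), (50, 3)], [], [], 1⟩,
  ⟨66, [(217, 1), (229, 2), (13, 3)], [], [], 1⟩,
  ⟨69, [(236, 1), (48, 1)], [], [], 1⟩,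
  ⟨70, [(32, 1), (34, 1)], [], [], 1⟩,
  ⟨77, [(39, 1), (241, 1)], [], [], 1⟩,
  ⟨86, [(320, 1), (66, 1)], [], [], 1⟩,
  ⟨116, [(6, 1), (77, 1)], [], [], 1⟩,
  ⟨158, [(114, 1), (79, 1)], [], [], 1⟩,
  ⟨211, [(320, 1), (164, 1)], [], [], 1⟩,
  ⟨226, [(291, 1), (168, 1)], [], [], 1⟩,
  ⟨240, [(229, 1), (134, 1)], [], [], 1⟩,
  ⟨257, [(289, 1), (144, 1)], [], [], 1⟩,
  ⟨285, [(57, 1), (66, 1)], [], [], 1⟩,
  ⟨292, [(8, 1), (66, 1)], [], [], 1⟩,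
  ⟨7, [(291, 1), (249, 1)], [], [], 1⟩,
  ⟨9, [(41, 1), (6, 1)], [], [], 1⟩]⟩

theorem r1 : run 364 co c1.X c1.m base c1.l [] = true := by decide +kernel
theorem t1 : tb 364 fl (wr [4, 1]) c1.X = true := by decide +kernel
theorem k1 : ts.map (cnc 364 co c1.X) = [20, 32, 96, 364, 0, 0] := by decide +kernel

/-- class 2, elements of order 3 -/
def c2 : Cl := ⟨dg 9 511 X2, 3, [⟨246, [], [], [⟨[(1, 2)], [(0, 2), (1, 3), (2, 3)], 8⟩], 162⟩,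
  ⟨14, [(308, 1)], [(1, 2)], [], 1⟩,
  ⟨34, [(246, 2)], [(1, 0)], [], 1⟩,
  ⟨41, [(349, 1), (246, 2), (14, 2)], [], [], 1⟩,
  ⟨42, [(165, 1)], [(1, 2)], [], 1⟩,
  ⟨44, [(22, 1), (14, 2), (246, 3), (349, 3), (34, 3)], [], [], 1⟩,
  ⟨45, [(345, 2), (42, 2), (44, 2), (246, 3), (349, 3), (308, 3), (14, 3)], [], [], 1⟩,
  ⟨46, [(6, 1), (177, 1)], [], [], 1⟩,
  ⟨47, [(89, 2), (242, 2), (165, 2), (291, 2)], [], [], 1⟩,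
  ⟨48, [(14, 2), (34, 2), (109, 2), (9, 2)], [], [], 1⟩,
  ⟨49, [(349, 2), (89, 2), (48, 2), (345, 2), (165, 2)], [], [], 1⟩,
  ⟨50, [(49, 1), (349, 2), (246, 3)], [], [], 1⟩,
  ⟨52, [(214, 1), (6, 1)], [], [], 1⟩,
  ⟨53, [(214, 1), (10, 1)], [], [], 1⟩,
  ⟨54, [(52, 1), (349, 2), (165, 2)], [], [], 1⟩,
  ⟨55, [(89, 2), (34, 2), (46, 2), (42, 2)], [], [], 1⟩,
  ⟨57, [(246, 1), (46, 1)], [], [], 1⟩,
  ⟨59, [(89, 2), (22, 2), (345, 2), (61, 2), (34, 3)], [], [], 1⟩,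
  ⟨60, [(153, 1), (14, 2), (246, 2)], [], [], 1⟩,
  ⟨62, [(47, 1), (48, 2), (246, 3)], [], [], 1⟩,
  ⟨68, [(316, 1), (124, 1)], [], [], 1⟩,
  ⟨74, [(41, 1), (177, 1)], [], [], 1⟩,
  ⟨86, [(214, 1), (157, 1)], [], [], 1⟩,
  ⟨132, [(61, 1), (66, 1)], [], [], 1⟩,
  ⟨206, [(53, 1), (16, 1)], [], [], 1⟩,
  ⟨207, [(89, 1), (10, 1)], [], [], 1⟩,
  ⟨243, [(186, 1), (57, 1)], [], [], 1⟩,
  ⟨253, [(42, 1), (77, 1)], [], [], 1⟩,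
  ⟨275, [(36, 1), (75, 1)], [], [], 1⟩,
  ⟨298, [(177, 1), (62, 1)], [], [], 1⟩,
  ⟨7, [(44, 1), (61, 1)], [], [], 1⟩]⟩

theorem r2 : run 364 co c2.X c2.m base c2.l [] = true := by decide +kernel
theorem t2 : tb 364 fl (wr [2]) c2.X = true := by decide +kernel
theorem k2 : ts.map (cnc 364 co c2.X) = [4, 9, 27, 4, 0, 0] := by decide +kernel

/-- class 3, elements of order 3 -/
def c3 : Cl := ⟨dg 9 511 X3, 3, [⟨281, [], [], [⟨[(1, 3)], [(0, 1)], 6⟩], 162⟩,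
  ⟨285, [(281, 1), (268, 1)], [], [], 1⟩,
  ⟨67, [(355, 2), (347, 2)], [(1, 1)], [], 1⟩,
  ⟨68, [(285, 2), (347, 2), (344, 2), (268, 3), (67, 3)], [(1, 3)], [], 1⟩,
  ⟨69, [(355, 2), (285, 2), (344, 2), (68, 3), (268, 3)], [(1, 2)], [], 1⟩,
  ⟨70, [(268, 1), (281, 2), (67, 3)], [], [], 1⟩,
  ⟨71, [(355, 2), (126, 2), (193, 2), (203, 2)], [], [], 1⟩,
  ⟨72, [(188, 1), (281, 2), (355, 3)], [], [], 1⟩,
  ⟨73, [(355, 2), (344, 2), (203, 2), (193, 2)], [], [], 1⟩,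
  ⟨74, [(281, 2), (126, 2), (189, 2), (203, 2)], [], [], 1⟩,
  ⟨76, [(37, 1), (299, 1)], [], [], 1⟩,
  ⟨78, [(40, 1), (356, 1)], [], [], 1⟩,
  ⟨79, [(281, 2), (126, 2), (268, 2), (7, 2)], [], [], 1⟩,
  ⟨80, [(268, 2), (347, 2)], [(1, 1)], [], 1⟩,
  ⟨82, [(189, 1)], [(1, 1)], [], 1⟩,
  ⟨83, [(281, 2), (193, 2), (7, 2), (266, 2)], [], [], 1⟩,
  ⟨84, [(355, 1), (170, 1)], [], [], 1⟩,
  ⟨87, [(144, 1), (355, 2), (281, 2)], [], [], 1⟩,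
  ⟨88, [(281, 2), (336, 2), (72, 2), (169, 2), (285, 3)], [], [], 1⟩,
  ⟨91, [(197, 1), (88, 1)], [], [], 1⟩,
  ⟨92, [(299, 1), (358, 1)], [], [], 1⟩,
  ⟨94, [(303, 1), (128, 2), (281, 3)], [], [], 1⟩,
  ⟨97, [(265, 1), (87, 1)], [], [], 1⟩,
  ⟨99, [(126, 1), (203, 1)], [], [], 1⟩,
  ⟨101, [(344, 1), (356, 1)], [], [], 1⟩,
  ⟨102, [(35, 1), (86, 1)], [], [], 1⟩,
  ⟨106, [(263, 1), (355, 2), (281, 2)], [], [], 1⟩,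
  ⟨122, [(37, 1), (195, 1)], [], [], 1⟩,
  ⟨186, [(189, 1), (243, 1)], [], [], 1⟩,
  ⟨200, [(268, 1), (242, 1)], [], [], 1⟩,
  ⟨258, [(193, 1), (188, 1)], [], [], 1⟩,
  ⟨261, [(268, 1), (125, 1)], [], [], 1⟩,
  ⟨284, [(37, 1), (183, 1)], [], [], 1⟩,
  ⟨308, [(91, 1), (36, 1)], [], [], 1⟩,
  ⟨24, [(101, 1), (156, 1)], [], [], 1⟩]⟩

theorem r3 : run 364 co c3.X c3.m base c3.l [] = true := by decide +kernel
theorem t3 : tb 364 fl (wr [5, 3, 5, 3, 4]) c3.X = true := by decide +kernel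
theorem k3 : ts.map (cnc 364 co c3.X) = [4, 9, 189, 4, 0, 0] := by decide +kernel

/-- class 4, elements of order 3 -/
def c4 : Cl := ⟨dg 9 511 X4, 3, [⟨130, [], [(1, 2)], [], 81⟩,
  ⟨71, [(93, 2)], [(1, 1)], [], 9⟩,
  ⟨11, [(71, 1)], [(1, 0)], [], 1⟩,
  ⟨14, [(34, 1), (130, 2), (93, 2)], [], [], 1⟩,
  ⟨15, [(93, 2), (34, 2), (14, 2), (42, 2), (130, 3)], [], [], 1⟩,
  ⟨16, [(162, 2), (163, 2), (131, 2), (71, 3)], [(1, 2)], [], 1⟩,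
  ⟨17, [(130, 2), (163, 2), (245, 2), (71, 3)], [(1, 2)], [], 1⟩,
  ⟨18, [(42, 1), (130, 3), (93, 3)], [(1, 2)], [], 1⟩,
  ⟨19, [(11, 1), (162, 2), (131, 2)], [], [], 1⟩,
  ⟨20, [(16, 1), (37, 1)], [], [], 1⟩,
  ⟨21, [(44, 1), (3, 2), (130, 3)], [], [], 1⟩,
  ⟨22, [(3, 1), (44, 1)], [], [], 1⟩,
  ⟨23, [(44, 1), (3, 2), (130, 2)], [], [], 1⟩,
  ⟨24, [(34, 2), (70, 2), (23, 2), (131, 3), (162, 3)], [], [], 1⟩,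
  ⟨25, [(14, 1), (8, 1), (163, 2)], [], [], 1⟩,
  ⟨27, [(71, 1), (28, 2), (130, 2)], [], [], 1⟩,
  ⟨29, [(245, 1), (130, 2), (93, 2)], [], [], 1⟩,
  ⟨35, [(28, 1), (130, 2), (93, 3)], [], [], 1⟩,
  ⟨38, [(34, 1), (37, 1)], [], [], 1⟩,
  ⟨43, [(130, 1), (245, 1)], [], [], 1⟩,
  ⟨52, [(162, 1), (130, 2), (71, 3)], [], [], 1⟩,
  ⟨54, [(5, 1), (52, 1)], [], [], 1⟩,
  ⟨57, [(27, 1), (128, 1)], [], [], 1⟩,
  ⟨68, [(17, 1), (124, 1)], [], [], 1⟩,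
  ⟨73, [(8, 1), (35, 1)], [], [], 1⟩,
  ⟨84, [(93, 1), (219, 1)], [], [], 1⟩,
  ⟨119, [(72, 1), (22, 1)], [], [], 1⟩,
  ⟨182, [(18, 1), (58, 1)], [], [], 1⟩,
  ⟨243, [(37, 1), (57, 1)], [], [], 1⟩,
  ⟨253, [(130, 1), (42, 1)], [], [], 1⟩]⟩

theorem r4 : run 364 co c4.X c4.m base c4.l [] = true := by decide +kernel
theorem t4 : tb 364 fl (wr [5, 1, 5, 2]) c4.X = true := by decide +kernel
theorem k4 : ts.map (cnc 364 co c4.X) = [13, 27, 81, 13, 0, 0] := by decide +kernel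

/-- class 5, elements of order 3 -/
def c5 : Cl := ⟨dg 9 511 X5, 3, [⟨95, [], [(1, 1)], [], 108⟩,
  ⟨2, [(95, 3)], [(1, 0)], [], 9⟩,
  ⟨53, [(271, 1), (2, 2), (95, 2)], [], [], 3⟩,
  ⟨3, [(95, 2), (2, 2), (119, 2)], [(1, 1)], [], 2⟩,
  ⟨285, [(338, 2), (53, 2), (240, 2), (34, 2), (2, 3), (3, 3)], [], [], 1⟩,
  ⟨304, [(255, 1), (53, 2), (338, 3)], [], [], 1⟩,
  ⟨25, [(2, 2), (240, 2), (34, 2), (338, 3), (95, 3), (271, 3), (285, 3)], [], [], 1⟩,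
  ⟨253, [(338, 2), (119, 2), (2, 2), (240, 2), (3, 2)], [], [], 1⟩,
  ⟨13, [(271, 2), (285, 2), (243, 2), (240, 3), (2, 3)], [], [], 1⟩,
  ⟨284, [(243, 1), (271, 2), (53, 2)], [], [], 1⟩,
  ⟨317, [(271, 2), (34, 2), (304, 2), (73, 2)], [], [], 1⟩,
  ⟨86, [(338, 2), (2, 2), (357, 2), (285, 2)], [], [], 1⟩,
  ⟨9, [(3, 1), (95, 2), (53, 3)], [], [], 1⟩,
  ⟨29, [(95, 2), (240, 2), (13, 2), (284, 2)], [], [], 1⟩,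
  ⟨16, [(160, 1), (338, 2), (2, 3)], [], [], 1⟩,
  ⟨24, [(2, 2), (243, 2), (48, 2), (53, 2)], [], [], 1⟩,
  ⟨7, [(86, 2), (9, 2)], [(1, 0)], [], 1⟩]⟩

theorem r5 : run 364 co c5.X c5.m base c5.l [] = true := by decide +kernel
theorem t5 : tb 364 fl (wr [5, 1, 5]) c5.X = true := by decide +kernel
theorem k5 : ts.map (cnc 364 co c5.X) = [13, 108, 0, 13, 0, 0] := by decide +kernel

/-- class 6, elements of order 3 -/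
def c6 : Cl := ⟨dg 9 511 X6, 3, [⟨2, [], [(1, 2)], [], 324⟩,
  ⟨5, [(2, 1), (121, 2)], [], [], 2⟩,
  ⟨119, [(2, 2), (5, 3)], [(1, 0)], [], 9⟩,
  ⟨3, [(119, 2), (2, 2), (5, 2)], [(1, 0)], [], 1⟩,
  ⟨19, [(2, 1), (121, 2), (5, 1)], [], [], 1⟩,
  ⟨22, [(119, 1), (3, 1)], [], [], 1⟩,
  ⟨56, [(2, 1), (119, 1)], [], [], 1⟩,
  ⟨61, [(19, 1), (119, 2), (318, 2)], [], [], 1⟩,
  ⟨63, [(2, 2), (22, 2), (85, 2), (199, 2), (119, 3)], [], [], 1⟩,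
  ⟨64, [(121, 2), (318, 2), (296, 2), (63, 2), (360, 3), (119, 3)], [], [], 1⟩,
  ⟨65, [(64, 1), (119, 2), (3, 2)], [], [], 1⟩,
  ⟨66, [(2, 2), (116, 2), (119, 2), (8, 2)], [], [], 1⟩,
  ⟨68, [(201, 1), (296, 2), (2, 2)], [], [], 1⟩,
  ⟨69, [(121, 2), (22, 2), (262, 2), (61, 2)], [], [], 1⟩,
  ⟨70, [(285, 1), (64, 2), (2, 3)], [], [], 1⟩,
  ⟨72, [(119, 1), (61, 1)], [], [], 1⟩,
  ⟨73, [(8, 1), (5, 2), (121, 3)], [], [], 1⟩,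
  ⟨74, [(61, 1), (70, 2), (148, 2)], [], [], 1⟩,
  ⟨75, [(8, 1), (5, 2), (121, 2)], [], [], 1⟩,
  ⟨76, [(61, 1), (85, 2), (121, 2)], [], [], 1⟩,
  ⟨77, [(116, 1), (150, 1)], [], [], 1⟩,
  ⟨78, [(77, 1), (193, 2), (2, 3)], [], [], 1⟩,
  ⟨79, [(56, 1), (351, 2), (121, 3)], [], [], 1⟩,
  ⟨81, [(185, 1), (75, 1)], [], [], 1⟩,
  ⟨83, [(63, 1), (262, 1)], [], [], 1⟩,
  ⟨86, [(66, 1), (2, 2), (121, 3)], [], [], 1⟩,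
  ⟨88, [(318, 1), (279, 1)], [], [], 1⟩,
  ⟨94, [(296, 1), (103, 1)], [], [], 1⟩,
  ⟨97, [(56, 1), (211, 1)], [], [], 1⟩,
  ⟨118, [(159, 1), (110, 1)], [], [], 1⟩,
  ⟨129, [(63, 1), (279, 1)], [], [], 1⟩,
  ⟨147, [(56, 1), (75, 1)], [], [], 1⟩,
  ⟨151, [(199, 1), (351, 1)], [], [], 1⟩,
  ⟨153, [(159, 1), (212, 1)], [], [], 1⟩,
  ⟨267, [(362, 1), (342, 1)], [], [], 1⟩,
  ⟨306, [(296, 1), (29, 1)], [], [], 1⟩,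
  ⟨13, [(46, 1), (82, 1)], [], [], 1⟩,
  ⟨9, [(3, 1), (88, 1)], [], [], 1⟩]⟩

theorem r6 : run 364 co c6.X c6.m base c6.l [] = true := by decide +kernel
theorem t6 : tb 364 fl (wr [1, 2, 5, 3, 5, 2, 1]) c6.X = true := by decide +kernel
theorem k6 : ts.map (cnc 364 co c6.X) = [40, 0, 324, 40, 0, 0] := by decide +kernel

/-- class 7, elements of order 4 -/
def c7 : Cl := ⟨dg 9 511 X7, 4, [⟨22, [], [(1, 1)], [], 16⟩,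
  ⟨9, [(22, 2)], [(1, 1)], [], 3⟩,
  ⟨234, [(4, 1), (22, 2)], [(2, 2)], [], 2⟩,
  ⟨122, [(202, 2), (22, 2), (98, 3)], [(2, 1)], [], 1⟩,
  ⟨125, [(98, 1), (320, 2), (22, 2)], [], [], 1⟩,
  ⟨126, [(199, 2), (232, 2), (9, 2)], [(2, 2)], [], 1⟩,
  ⟨127, [(21, 2), (320, 2), (202, 2), (9, 3)], [(1, 2)], [], 1⟩,
  ⟨128, [(98, 2), (202, 2), (216, 2)], [(2, 1)], [], 1⟩,
  ⟨129, [(128, 1), (202, 2), (21, 3)], [], [], 1⟩,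
  ⟨130, [(102, 2), (173, 2), (129, 3), (21, 3)], [(1, 2)], [], 1⟩,
  ⟨131, [(98, 1), (216, 1)], [], [], 1⟩,
  ⟨132, [(61, 1), (181, 2), (22, 3)], [], [], 1⟩,
  ⟨134, [(68, 1), (173, 2), (22, 2)], [], [], 1⟩,
  ⟨141, [(122, 1), (125, 1)], [], [], 1⟩,
  ⟨147, [(75, 1), (132, 1)], [], [], 1⟩,
  ⟨153, [(130, 1), (141, 1)], [], [], 1⟩,
  ⟨156, [(61, 1), (84, 1)], [], [], 1⟩,
  ⟨159, [(130, 1), (14, 1)], [], [], 1⟩,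
  ⟨223, [(22, 1), (173, 1)], [], [], 1⟩,
  ⟨240, [(68, 1), (173, 1)], [], [], 1⟩,
  ⟨262, [(127, 1), (155, 1)], [], [], 1⟩,
  ⟨281, [(9, 1), (66, 1)], [], [], 1⟩,
  ⟨285, [(70, 1), (134, 1)], [], [], 1⟩,
  ⟨303, [(232, 1), (139, 1)], [], [], 1⟩,
  ⟨7, [(291, 1), (128, 1)], [], [], 1⟩]⟩

theorem r7 : run 364 co c7.X c7.m base c7.l [] = true := by decide +kernel
theorem t7 : tb 364 fl (wr [1, 0]) c7.X = true := by decide +kernel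
theorem k7 : ts.map (cnc 364 co c7.X) = [0, 16, 96, 20, 0, 0] := by decide +kernel

/-- class 8, elements of order 4 -/
def c8 : Cl := ⟨dg 9 511 X8, 4, [⟨3, [], [(1, 0)], [], 4⟩,
  ⟨172, [(3, 1)], [(2, 1)], [], 8⟩,
  ⟨4, [(136, 2), (3, 2)], [(2, 0)], [], 3⟩,
  ⟨9, [(3, 1), (4, 1)], [], [], 1⟩,
  ⟨1, [(4, 1)], [(1, 0)], [], 1⟩,
  ⟨20, [(1, 1), (172, 2), (108, 2)], [], [], 1⟩,
  ⟨21, [(1, 1), (217, 1), (3, 2)], [], [], 1⟩,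
  ⟨25, [(4, 2), (217, 3), (269, 3)], [(2, 1)], [], 1⟩,
  ⟨26, [(172, 2), (108, 2), (4, 2), (25, 3)], [(2, 2)], [], 1⟩,
  ⟨27, [(46, 1), (43, 2), (3, 2)], [], [], 1⟩,
  ⟨28, [(108, 2), (1, 2), (4, 2), (42, 2), (46, 3)], [], [], 1⟩,
  ⟨29, [(43, 1), (107, 1)], [], [], 1⟩,
  ⟨30, [(25, 1), (20, 2), (3, 3)], [], [], 1⟩,
  ⟨32, [(55, 1), (20, 2), (3, 3)], [], [], 1⟩,
  ⟨33, [(15, 1), (136, 2), (172, 2)], [], [], 1⟩,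
  ⟨34, [(3, 1), (14, 1)], [], [], 1⟩,
  ⟨35, [(108, 1), (28, 1)], [], [], 1⟩,
  ⟨36, [(172, 2), (1, 2), (10, 2), (35, 2)], [], [], 1⟩,
  ⟨37, [(20, 1), (312, 2), (136, 2)], [], [], 1⟩,
  ⟨41, [(9, 1), (195, 2), (10, 3)], [], [], 1⟩,
  ⟨44, [(21, 1), (3, 2), (25, 3)], [], [], 1⟩,
  ⟨49, [(4, 1), (224, 1)], [], [], 1⟩,
  ⟨61, [(30, 1), (32, 1)], [], [], 1⟩,
  ⟨76, [(37, 1), (61, 1)], [], [], 1⟩,
  ⟨192, [(217, 1), (55, 1)], [], [], 1⟩,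
  ⟨237, [(5, 1), (188, 1)], [], [], 1⟩,
  ⟨268, [(33, 1), (64, 1)], [], [], 1⟩,
  ⟨285, [(224, 1), (57, 1)], [], [], 1⟩,
  ⟨303, [(62, 1), (94, 1)], [], [], 1⟩,
  ⟨7, [(44, 1)], [(1, 0)], [], 1⟩]⟩

theorem r8 : run 364 co c8.X c8.m base c8.l [] = true := by decide +kernel
theorem t8 : tb 364 fl (wr [4, 0]) c8.X = true := by decide +kernel
theorem k8 : ts.map (cnc 364 co c8.X) = [4, 0, 144, 20, 0, 0] := by decide +kernel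

/-- class 9, elements of order 6 -/
def c9 : Cl := ⟨dg 9 511 X9, 6, [⟨71, [], [(3, 1), (1, 3)], [], 6⟩,
  ⟨42, [(71, 2), (128, 3)], [(3, 0)], [], 3⟩,
  ⟨285, [(128, 2), (102, 2), (23, 2), (34, 2)], [(1, 3)], [], 1⟩,
  ⟨7, [(128, 1), (17, 1)], [], [], 1⟩,
  ⟨304, [(128, 2), (102, 2), (333, 2), (354, 2), (71, 3)], [], [], 1⟩,
  ⟨25, [(0, 1), (17, 2), (71, 3)], [], [], 1⟩,
  ⟨253, [(42, 1), (355, 2), (128, 2)], [], [], 1⟩,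
  ⟨13, [(104, 1), (46, 1)], [], [], 1⟩,
  ⟨284, [(310, 1), (71, 2), (102, 2)], [], [], 1⟩,
  ⟨317, [(102, 2), (34, 2), (23, 2)], [(3, 2)], [], 1⟩,
  ⟨86, [(102, 1), (329, 1)], [], [], 1⟩,
  ⟨9, [(17, 1), (3, 1)], [], [], 1⟩,
  ⟨29, [(173, 1), (127, 1)], [], [], 1⟩,
  ⟨24, [(101, 1), (202, 1)], [], [], 1⟩]⟩

theorem r9 : run 364 co c9.X c9.m base c9.l [] = true := by decide +kernel
theorem t9 : tb 364 fl (wr [0]) c9.X = true := by decide +kernel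
theorem k9 : ts.map (cnc 364 co c9.X) = [2, 5, 87, 4, 0, 0] := by decide +kernel

/-- class 10, elements of order 6 -/
def c10 : Cl := ⟨dg 9 511 X10, 6, [⟨11, [], [(2, 0), (1, 1)], [], 2⟩,
  ⟨219, [], [(2, 1), (1, 1)], [], 3⟩,
  ⟨26, [(312, 2), (11, 2)], [(1, 1)], [], 3⟩,
  ⟨285, [(219, 2), (101, 2), (26, 3), (356, 3), (139, 3)], [(1, 2), (2, 3)], [], 1⟩,
  ⟨7, [(137, 2), (69, 2)], [(3, 1)], [], 1⟩,
  ⟨304, [(69, 1), (26, 2), (11, 2)], [], [], 1⟩,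
  ⟨25, [(291, 2), (102, 2), (309, 2)], [(3, 2)], [], 1⟩,
  ⟨253, [(101, 2), (356, 2), (137, 2), (351, 2)], [], [], 1⟩,
  ⟨13, [(71, 2), (26, 2), (101, 2), (215, 2)], [], [], 1⟩,
  ⟨284, [(227, 1), (260, 2), (11, 3)], [], [], 1⟩,
  ⟨317, [(22, 2), (139, 2), (260, 2), (101, 2), (11, 3)], [], [], 1⟩,
  ⟨86, [(66, 1), (322, 1)], [], [], 1⟩,
  ⟨9, [(4, 1)], [(2, 1)], [], 1⟩,
  ⟨16, [(353, 1), (158, 1)], [], [], 1⟩,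
  ⟨24, [(26, 1), (4, 1)], [], [], 1⟩]⟩

theorem r10 : run 364 co c10.X c10.m base c10.l [] = true := by decide +kernel
theorem t10 : tb 364 fl (wr [1, 5, 4, 1]) c10.X = true := by decide +kernel
theorem k10 : ts.map (cnc 364 co c10.X) = [2, 23, 123, 4, 0, 0] := by decide +kernel

/-- class 11, elements of order 6 -/
def c11 : Cl := ⟨dg 9 511 X11, 6, [⟨45, [], [(3, 1), (1, 3)], [], 24⟩,
  ⟨44, [(45, 2), (286, 2)], [(1, 2)], [], 3⟩,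
  ⟨285, [(286, 2), (186, 2), (180, 2), (272, 3)], [(3, 2)], [], 1⟩,
  ⟨7, [(44, 1), (19, 1)], [], [], 1⟩,
  ⟨304, [(255, 1), (353, 2), (286, 3)], [], [], 1⟩,
  ⟨25, [(286, 2), (241, 2), (31, 2)], [(1, 2)], [], 1⟩,
  ⟨253, [(77, 1), (186, 2), (286, 3)], [], [], 1⟩,
  ⟨13, [(45, 1), (276, 1), (286, 3)], [], [], 1⟩,
  ⟨284, [(243, 1), (222, 2), (45, 2)], [], [], 1⟩,
  ⟨317, [(222, 1), (276, 2), (88, 2)], [], [], 1⟩,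
  ⟨86, [(214, 1), (88, 2), (45, 3)], [], [], 1⟩,
  ⟨9, [(88, 1), (4, 1)], [], [], 1⟩,
  ⟨29, [(173, 1), (107, 1)], [], [], 1⟩,
  ⟨16, [(353, 1), (313, 1)], [], [], 1⟩,
  ⟨24, [(45, 1), (4, 1)], [], [], 1⟩]⟩

theorem r11 : run 364 co c11.X c11.m base c11.l [] = true := by decide +kernel
theorem t11 : tb 364 fl (wr [5, 2, 1, 5, 0]) c11.X = true := by decide +kernel
theorem k11 : ts.map (cnc 364 co c11.X) = [5, 20, 96, 13, 0, 0] := by decide +kernel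

/-- class 12, elements of order 6 -/
def c12 : Cl := ⟨dg 9 511 X12, 6, [⟨17, [], [(3, 1), (1, 2)], [], 24⟩,
  ⟨65, [(358, 2), (17, 3)], [(3, 0)], [], 3⟩,
  ⟨15, [(65, 2), (17, 3)], [(1, 1)], [], 1⟩,
  ⟨28, [(358, 1), (54, 2), (17, 3), (15, 3), (339, 3)], [], [], 1⟩,
  ⟨30, [(68, 2), (54, 2), (28, 2), (339, 2), (358, 3)], [], [], 1⟩,
  ⟨31, [(302, 1), (15, 1)], [], [], 1⟩,
  ⟨32, [(335, 1), (290, 1)], [], [], 1⟩,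
  ⟨33, [(15, 1), (63, 2), (17, 2)], [], [], 1⟩,
  ⟨34, [(31, 1), (153, 2), (63, 2)], [], [], 1⟩,
  ⟨35, [(28, 1), (351, 1)], [], [], 1⟩,
  ⟨36, [(140, 1), (260, 1)], [], [], 1⟩,
  ⟨38, [(37, 1), (34, 1)], [], [], 1⟩,
  ⟨40, [(345, 1), (151, 1)], [], [], 1⟩,
  ⟨41, [(236, 1), (28, 2), (17, 2)], [], [], 1⟩,
  ⟨43, [(1, 1), (130, 1)], [], [], 1⟩,
  ⟨51, [(302, 1), (2, 1)], [], [], 1⟩,
  ⟨58, [(28, 1), (244, 1)], [], [], 1⟩,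
  ⟨66, [(285, 1), (344, 2), (17, 3)], [], [], 1⟩,
  ⟨71, [(65, 1), (140, 1)], [], [], 1⟩,
  ⟨86, [(202, 1), (66, 1)], [], [], 1⟩,
  ⟨89, [(63, 1), (34, 1)], [], [], 1⟩,
  ⟨109, [(140, 1), (1, 1)], [], [], 1⟩,
  ⟨119, [(212, 1), (345, 1)], [], [], 1⟩,
  ⟨122, [(37, 1), (0, 1)], [], [], 1⟩,
  ⟨248, [(238, 1), (286, 1)], [], [], 1⟩,
  ⟨279, [(40, 1), (298, 1)], [], [], 1⟩]⟩

theorem r12 : run 364 co c12.X c12.m base c12.l [] = true := by decide +kernel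
theorem t12 : tb 364 fl (wr [5, 2]) c12.X = true := by decide +kernel
theorem k12 : ts.map (cnc 364 co c12.X) = [8, 8, 132, 40, 0, 0] := by decide +kernel

/-- class 13, elements of order 7 -/
def c13 : Cl := ⟨dg 9 511 X13, 7, [⟨8, [], [(1, 1)], [], 7⟩,
  ⟨7, [(174, 2), (93, 2)], [(1, 2), (2, 2)], [], 1⟩,
  ⟨304, [(140, 2), (149, 2), (260, 2), (93, 3), (174, 3)], [(3, 3)], [], 1⟩,
  ⟨25, [(8, 1), (47, 2), (297, 2)], [], [], 1⟩,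
  ⟨253, [(260, 2), (2, 2), (63, 2), (132, 3)], [(3, 2)], [], 1⟩,
  ⟨13, [(20, 2)], [(2, 1)], [], 1⟩,
  ⟨284, [(290, 1), (131, 2), (20, 2)], [], [], 1⟩,
  ⟨317, [(307, 1), (334, 2), (8, 3)], [], [], 1⟩,
  ⟨86, [(47, 2)], [(3, 1)], [], 1⟩,
  ⟨29, [(264, 1), (306, 1)], [], [], 1⟩,
  ⟨16, [(20, 1), (114, 1)], [], [], 1⟩,
  ⟨24, [(202, 1), (26, 1)], [], [], 1⟩,
  ⟨40, [(297, 1), (180, 1)], [], [], 1⟩]⟩

theorem r13 : run 364 co c13.X c13.m base c13.l [] = true := by decide +kernel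
theorem t13 : tb 364 fl (wr [1, 5, 1]) c13.X = true := by decide +kernel
theorem k13 : ts.map (cnc 364 co c13.X) = [0, 7, 105, 0, 7, 0] := by decide +kernel

/-- class 14, elements of order 8 -/
def c14 : Cl := ⟨dg 9 511 X14, 8, [⟨3, [], [(4, 0), (2, 3)], [], 4⟩,
  ⟨32, [(3, 3), (124, 2)], [(1, 1)], [], 2⟩,
  ⟨285, [(124, 2), (138, 2)], [(1, 2), (4, 2)], [], 1⟩,
  ⟨7, [(291, 1), (257, 2), (32, 2)], [], [], 1⟩,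
  ⟨304, [(275, 1), (54, 2), (32, 3)], [], [], 1⟩,
  ⟨25, [(176, 1), (126, 2), (220, 2)], [], [], 1⟩,
  ⟨253, [(77, 1), (3, 2), (257, 2)], [], [], 1⟩,
  ⟨13, [(335, 1), (57, 1)], [], [], 1⟩,
  ⟨284, [(290, 1), (227, 1)], [], [], 1⟩,
  ⟨317, [(257, 1), (307, 1)], [], [], 1⟩,
  ⟨86, [(138, 1), (322, 1)], [], [], 1⟩,
  ⟨9, [(3, 1), (181, 1)], [], [], 1⟩,
  ⟨16, [(32, 1), (285, 2), (184, 2)], [], [], 1⟩,
  ⟨24, [(45, 1), (359, 1)], [], [], 1⟩]⟩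

theorem r14 : run 364 co c14.X c14.m base c14.l [] = true := by decide +kernel
theorem t14 : tb 364 fl (wr [4, 5, 1]) c14.X = true := by decide +kernel
theorem k14 : ts.map (cnc 364 co c14.X) = [0, 16, 96, 0, 0, 0] := by decide +kernel

/-- class 15, elements of order 8 -/
def c15 : Cl := ⟨dg 9 511 X15, 8, [⟨177, [], [(4, 1), (3, 3)], [], 8⟩,
  ⟨304, [(206, 1), (300, 3), (194, 3), (177, 3)], [(3, 3)], [], 1⟩,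
  ⟨253, [(206, 2), (244, 2), (355, 2), (26, 3)], [(4, 2)], [], 1⟩,
  ⟨13, [(45, 1), (177, 2)], [(4, 2)], [], 1⟩,
  ⟨284, [(60, 1)], [(1, 1)], [], 1⟩,
  ⟨317, [(203, 1), (60, 2), (177, 3)], [], [], 1⟩,
  ⟨86, [(202, 1), (355, 2), (194, 3)], [], [], 1⟩,
  ⟨9, [(281, 1), (181, 1)], [], [], 1⟩,
  ⟨29, [(107, 1), (209, 1)], [], [], 1⟩,
  ⟨16, [(206, 1), (361, 2), (194, 2)], [], [], 1⟩,
  ⟨24, [(26, 1), (202, 1)], [], [], 1⟩,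
  ⟨7, [(18, 1), (113, 2), (26, 3)], [], [], 1⟩]⟩

theorem r15 : run 364 co c15.X c15.m base c15.l [] = true := by decide +kernel
theorem t15 : tb 364 fl (wr [5, 3, 4]) c15.X = true := by decide +kernel
theorem k15 : ts.map (cnc 364 co c15.X) = [2, 8, 120, 4, 0, 0] := by decide +kernel

/-- class 16, elements of order 9 -/
def c16 : Cl := ⟨dg 9 511 X16, 9, [⟨46, [], [(1, 2), (4, 2), (2, 3)], [], 27⟩,
  ⟨285, [(46, 2), (128, 2), (179, 2), (218, 3)], [(3, 2)], [], 1⟩,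
  ⟨7, [(128, 1), (218, 1)], [], [], 1⟩,
  ⟨304, [(128, 2), (354, 2), (222, 2), (109, 2), (21, 2)], [], [], 1⟩,
  ⟨253, [(128, 2), (237, 2), (46, 3)], [(3, 1)], [], 1⟩,
  ⟨13, [(46, 1), (128, 2), (222, 3)], [], [], 1⟩,
  ⟨284, [(222, 2), (51, 2), (285, 2), (213, 2)], [], [], 1⟩,
  ⟨317, [(222, 1), (357, 1)], [], [], 1⟩,
  ⟨86, [(254, 1), (102, 1)], [], [], 1⟩,
  ⟨29, [(285, 2), (128, 2)], [(3, 0)], [], 1⟩,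
  ⟨16, [(20, 1), (218, 2), (46, 3)], [], [], 1⟩,
  ⟨24, [(359, 1), (26, 1)], [], [], 1⟩]⟩

theorem r16 : run 364 co c16.X c16.m base c16.l [] = true := by decide +kernel
theorem t16 : tb 364 fl (wr [5, 3, 4, 0]) c16.X = true := by decide +kernel
theorem k16 : ts.map (cnc 364 co c16.X) = [1, 3, 117, 1, 0, 0] := by decide +kernel

/-- class 17, elements of order 9 -/
def c17 : Cl := ⟨dg 9 511 X17, 9, [⟨0, [], [(3, 2), (4, 2)], [], 27⟩,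
  ⟨285, [(70, 1), (286, 2), (128, 2)], [], [], 1⟩,
  ⟨7, [(128, 1), (44, 1)], [], [], 1⟩,
  ⟨304, [(69, 1), (122, 2), (161, 2)], [], [], 1⟩,
  ⟨25, [(0, 1), (116, 2), (128, 3)], [], [], 1⟩,
  ⟨253, [(116, 1), (128, 2), (161, 2)], [], [], 1⟩,
  ⟨13, [(27, 1), (0, 2), (128, 2)], [], [], 1⟩,
  ⟨284, [(191, 1), (97, 1)], [], [], 1⟩,
  ⟨317, [(70, 1), (307, 1)], [], [], 1⟩,
  ⟨9, [(6, 1), (88, 1)], [], [], 1⟩,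
  ⟨29, [(307, 1), (91, 2), (0, 2)], [], [], 1⟩,
  ⟨16, [(70, 1), (160, 1)], [], [], 1⟩,
  ⟨24, [(270, 1), (117, 1)], [], [], 1⟩]⟩

theorem r17 : run 364 co c17.X c17.m base c17.l [] = true := by decide +kernel
theorem t17 : tb 364 fl (wr [5, 3, 4, 1]) c17.X = true := by decide +kernel
theorem k17 : ts.map (cnc 364 co c17.X) = [1, 3, 117, 1, 0, 27] := by decide +kernel

/-- class 18, elements of order 9 -/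
def c18 : Cl := ⟨dg 9 511 X18, 9, [⟨30, [], [(3, 2), (2, 2)], [], 27⟩,
  ⟨285, [(224, 1)], [(4, 1)], [], 1⟩,
  ⟨7, [(30, 2), (189, 2), (132, 2)], [(3, 2), (1, 2)], [], 1⟩,
  ⟨304, [(193, 1), (30, 2), (140, 2)], [], [], 1⟩,
  ⟨25, [(30, 1), (159, 2), (140, 3)], [], [], 1⟩,
  ⟨253, [(293, 2), (70, 2), (285, 2)], [(2, 2)], [], 1⟩,
  ⟨13, [(45, 1), (38, 2), (132, 2)], [], [], 1⟩,
  ⟨284, [(127, 1), (227, 1)], [], [], 1⟩,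
  ⟨86, [(66, 1), (250, 1)], [], [], 1⟩,
  ⟨9, [(294, 1), (6, 1)], [], [], 1⟩,
  ⟨29, [(127, 1), (283, 2), (132, 3)], [], [], 1⟩,
  ⟨16, [(55, 1), (294, 1)], [], [], 1⟩,
  ⟨24, [(45, 1), (202, 1)], [], [], 1⟩]⟩

theorem r18 : run 364 co c18.X c18.m base c18.l [] = true := by decide +kernel
theorem t18 : tb 364 fl (wr [5]) c18.X = true := by decide +kernel
theorem k18 : ts.map (cnc 364 co c18.X) = [1, 30, 90, 1, 0, 0] := by decide +kernel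

/-- class 19, elements of order 12 -/
def c19 : Cl := ⟨dg 9 511 X19, 12, [⟨171, [], [(5, 1), (1, 3)], [], 12⟩,
  ⟨285, [(286, 2), (200, 2)], [(1, 1)], [], 1⟩,
  ⟨7, [(171, 2), (200, 2), (248, 2), (224, 3)], [(3, 2)], [], 1⟩,
  ⟨304, [(53, 2), (58, 2), (333, 2), (171, 2)], [(1, 2)], [], 1⟩,
  ⟨25, [(171, 2), (7, 3)], [(2, 0)], [], 1⟩,
  ⟨253, [(339, 1), (198, 1)], [], [], 1⟩,
  ⟨13, [(27, 1), (104, 1)], [], [], 1⟩,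
  ⟨317, [(357, 1), (146, 1)], [], [], 1⟩,
  ⟨86, [(254, 1), (322, 1)], [], [], 1⟩,
  ⟨9, [(98, 1), (136, 1)], [], [], 1⟩,
  ⟨29, [(106, 1), (127, 1)], [], [], 1⟩,
  ⟨16, [(160, 1), (83, 2), (339, 3)], [], [], 1⟩,
  ⟨24, [(101, 1), (239, 1)], [], [], 1⟩]⟩

theorem r19 : run 364 co c19.X c19.m base c19.l [] = true := by decide +kernel
theorem t19 : tb 364 fl (wr [5, 4, 1]) c19.X = true := by decide +kernel
theorem k19 : ts.map (cnc 364 co c19.X) = [0, 16, 96, 8, 0, 0] := by decide +kernel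

/-- class 20, elements of order 12 -/
def c20 : Cl := ⟨dg 9 511 X20, 12, [⟨204, [], [(6, 1), (1, 3)], [], 12⟩,
  ⟨285, [(32, 2), (149, 2), (128, 2), (204, 3)], [(6, 2)], [], 1⟩,
  ⟨7, [(44, 1), (128, 1)], [], [], 1⟩,
  ⟨304, [(296, 2), (314, 2), (204, 2)], [(6, 1)], [], 1⟩,
  ⟨25, [(31, 2), (164, 2), (61, 2)], [(2, 2)], [], 1⟩,
  ⟨13, [(45, 1), (82, 1)], [], [], 1⟩,
  ⟨284, [(37, 1), (285, 2), (204, 2)], [], [], 1⟩,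
  ⟨86, [(138, 1), (329, 1)], [], [], 1⟩,
  ⟨9, [(108, 1), (6, 1)], [], [], 1⟩,
  ⟨16, [(32, 1), (206, 1)], [], [], 1⟩,
  ⟨24, [(45, 1), (202, 1)], [], [], 1⟩]⟩

theorem r20 : run 364 co c20.X c20.m base c20.l [] = true := by decide +kernel
theorem t20 : tb 364 fl (wr [5, 3, 5, 4]) c20.X = true := by decide +kernel
theorem k20 : ts.map (cnc 364 co c20.X) = [1, 12, 108, 5, 0, 0] := by decide +kernel

/-- class 21, elements of order 13 -/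
def c21 : Cl := ⟨dg 9 511 X21, 13, [⟨40, [], [(4, 1)], [], 13⟩,
  ⟨285, [(32, 2), (227, 2), (284, 2), (69, 2), (48, 3)], [], [], 1⟩,
  ⟨7, [(226, 2), (69, 2)], [(3, 1)], [], 1⟩,
  ⟨304, [(69, 1), (226, 1)], [], [], 1⟩,
  ⟨25, [(166, 1), (250, 2), (322, 3)], [], [], 1⟩,
  ⟨253, [(116, 1), (339, 1)], [], [], 1⟩,
  ⟨317, [(257, 1), (203, 1)], [], [], 1⟩,
  ⟨86, [(322, 1), (250, 1)], [], [], 1⟩,
  ⟨9, [(281, 1), (108, 1)], [], [], 1⟩,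
  ⟨16, [(32, 1), (206, 1)], [], [], 1⟩,
  ⟨24, [(360, 1), (101, 1)], [], [], 1⟩]⟩

theorem r21 : run 364 co c21.X c21.m base c21.l [] = true := by decide +kernel
theorem t21 : tb 364 fl (wr [5, 1]) c21.X = true := by decide +kernel
theorem k21 : ts.map (cnc 364 co c21.X) = [0, 13, 117, 0, 13, 0] := by decide +kernel

/-- class 22, elements of order 13 -/
def c22 : Cl := ⟨dg 9 511 X22, 13, [⟨10, [], [(2, 2), (3, 2), (1, 3)], [], 13⟩,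
  ⟨285, [(55, 2), (182, 2), (187, 2), (253, 2), (336, 3)], [], [], 1⟩,
  ⟨7, [(10, 2), (336, 2), (248, 2), (187, 2), (55, 3)], [], [], 1⟩,
  ⟨304, [(187, 1), (182, 1)], [], [], 1⟩,
  ⟨25, [(6, 1), (30, 1)], [], [], 1⟩,
  ⟨13, [(205, 2), (336, 3)], [(2, 1)], [], 1⟩,
  ⟨284, [(60, 1), (191, 1)], [], [], 1⟩,
  ⟨86, [(254, 1), (239, 2), (55, 3)], [], [], 1⟩,
  ⟨9, [(6, 1), (181, 1)], [], [], 1⟩,
  ⟨29, [(264, 1), (59, 1)], [], [], 1⟩,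
  ⟨16, [(55, 1), (206, 1)], [], [], 1⟩,
  ⟨24, [(101, 1), (120, 1)], [], [], 1⟩]⟩

theorem r22 : run 364 co c22.X c22.m base c22.l [] = true := by decide +kernel
theorem t22 : tb 364 fl (wr [5, 4]) c22.X = true := by decide +kernel
theorem k22 : ts.map (cnc 364 co c22.X) = [0, 13, 117, 0, 0, 0] := by decide +kernel

end Cfsg.Agent.H347.HX.G23
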