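import Cfsg.Agent.H347.HX.G23.Cert
import Cfsg.Agent.H845.GTwoIso
import Cfsg.Agent.H64.G23Abs
import Cfsg.Agent.H78.Pw.Base
import Cfsg.Agent.H643.PwCnt
import Cfsg.Agent.ChevalleyStructure.FieldIso

/-!
# The 23 conjugacy classes of `G₂(3)` (helper347)

`A = Aut 364 co` is `G₂(3)` (`equiv`); every element of `A` is conjugate to a commutator `[u, v]`, `v ∈ wv`
(`classes`); `pw`: `Pw G₂(3)`.
-/

set_option autoImplicit false
set_option maxRecDepth 100000
set_option Elab.async false

namespace Cfsg.Agent.H347.HX.G23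

open Cfsg.Agent.GTwoThree Cfsg.Agent.H64.G23Abs

/-- `G₂(3)` -/
abbrev A : Subgroup (Equiv.Perm (Fin 364)) := Aut 364 co

theorem in0 : inb 364 (fl 0) = true := by decide +kernel
theorem in1 : inb 364 (fl 1) = true := by decide +kernel
theorem in2 : inb 364 (fl 2) = true := by decide +kernel
theorem in3 : inb 364 (fl 3) = true := by decide +kernel
theorem in4 : inb 364 (fl 4) = true := by decide +kernel
theorem in5 : inb 364 (fl 5) = true := by decide +kernel

theorem in_all : ∀ j, inb 364 (fl j) = true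
  | 0 => in0
  | 1 => in1
  | 2 => in2
  | 3 => in3
  | 4 => in4
  | _ + 5 => in5

theorem pr0 : pres 364 co (fl 0) = true := by decide +kernel
theorem pr1 : pres 364 co (fl 1) = true := by decide +kernel
theorem pr2 : pres 364 co (fl 2) = true := by decide +kernel
theorem pr3 : pres 364 co (fl 3) = true := by decide +kernel
theorem pr4 : pres 364 co (fl 4) = true := by decide +kernel
theorem pr5 : pres 364 co (fl 5) = true := by decide +kernel

theorem pr_all : ∀ j, pres 364 co (fl j) = true
  | 0 => pr0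
  | 1 => pr1
  | 2 => pr2
  | 3 => pr3
  | 4 => pr4
  | _ + 5 => pr5

/-- the letters -/
def s (j : ℕ) : A := ⟨ofTb (fl j) (in_all j), mem_of_pres (fun _ => rfl) (pr_all j)⟩

theorem rp_s (j : ℕ) : Rp (fl j) (s j) := fun _ => rfl

theorem s_sq (j : ℕ) : s j * s j = 1 := by
  apply Subtype.ext
  apply Equiv.ext
  intro q
  exact Fin.ext (of_inb (in_all j) q q.2).2

/-- equality of words -/
def chk (u v : List ℕ) : Bool := alb 364 fun p => Nat.beq (ap fl u p) (ap fl v p)

theorem key {u v : List ℕ} (h : chk u v = true) : ev s u = ev s v := by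
  apply Subtype.ext
  apply Equiv.ext
  intro q
  apply Fin.ext
  rw [Rp.ev rp_s u q, Rp.ev rp_s v q]
  exact Nat.eq_of_beq_eq_true (of_alb h q q.2)

theorem mulw (u v : List ℕ) : ev s u * ev s v = ev s (u ++ v) := (ev_append s u v).symm

theorem revw (u : List ℕ) : (ev s u)⁻¹ = ev s u.reverse := (ev_reverse s_sq u).symm

theorem rel : Rel (ev s [0, 1]) (ev s [0, 2]) (ev s [0, 3]) (ev s [0, 4]) (ev s [0]) (ev s [5]) := by
  refine RelC.toRel ?_ (by rw [mulw, mulw]; exact key (by decide +kernel))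
  exact
  { a3 := by rw [pow_three', mulw, mulw]; exact key (v := []) (by decide +kernel)
    c3 := by rw [pow_three', mulw, mulw]; exact key (v := []) (by decide +kernel)
    b4 := by rw [pow_succ, pow_three', mulw, mulw, mulw]; exact key (v := []) (by decide +kernel)
    bd2 := by rw [mulw, mulw]; exact key (by decide +kernel)
    rr := by rw [mulw]; exact key (v := []) (by decide +kernel)
    tt := by rw [mulw]; exact key (v := []) (by decide +kernel)
    ad := by rw [mulw, mulw]; exact key (by decide +kernel)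
    bc := by rw [mulw, mulw]; exact key (by decide +kernel)
    bd := by rw [mulw, mulw]; exact key (by decide +kernel)
    ab3 := by rw [pow_three', mulw, mulw, mulw]; exact key (v := []) (by decide +kernel)
    cd3 := by rw [pow_three', mulw, mulw, mulw]; exact key (v := []) (by decide +kernel)
    za := by rw [mulw, mulw, mulw]; exact key (by decide +kernel)
    zc := by rw [mulw, mulw, mulw]; exact key (by decide +kernel)
    ra := by rw [revw]; simp only [mulw]; exact key (by decide +kernel)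
    rb := by rw [revw]; simp only [mulw]; exact key (by decide +kernel)
    rc := by rw [revw]; simp only [mulw]; exact key (by decide +kernel)
    rd := by rw [revw]; simp only [mulw]; exact key (by decide +kernel)
    bt3 := by rw [pow_three', mulw, mulw, mulw]; exact key (v := []) (by decide +kernel)
    te := by simp only [mulw]; exact key (by decide +kernel)
    tz := by simp only [mulw]; exact key (by decide +kernel)
    k1 := by simp only [mulw]; exact key (by decide +kernel)
    k2 := by simp only [mulw, revw]; exact key (by decide +kernel)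
    k3 := by simp only [mulw]; exact key (by decide +kernel) }

theorem ne_of {u v : List ℕ} (p : Fin 364) (h : Nat.beq (ap fl u p) (ap fl v p) = false) : ev s u ≠ ev s v := by
  intro e
  have h1 := Rp.ev rp_s u p
  rw [e, Rp.ev rp_s v p] at h1
  rw [← h1, Nat.beq_refl] at h
  cases h

theorem a_ne : ev s [0, 1] ≠ 1 := ne_of (v := []) 1 (by decide +kernel)

theorem hbase (c : A) (hc : ∀ f ∈ base, Fx c f) : c = 1 := base_of_sep sep_base c hc

theorem run_all : run 364 co (fun y => y) 1 base c0.l [] = true := by decide +kernel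

theorem card_le_A : Nat.card A ≤ 4245696 := (card_le_all hbase run_all).trans (by decide +kernel)

theorem iso : Subgroup.closure {ev s [0, 1], ev s [0, 2], ev s [0, 3], ev s [0, 4], ev s [0], ev s [5]} = (⊤ : Subgroup A) ∧
    Nat.card A = 4245696 ∧ Nonempty (A ≃* ↥(Lie.chevG2.group (ZMod 3))) := by
  obtain ⟨h1, h2, ⟨e⟩⟩ := Cfsg.Agent.H845.GTwoIso.iso_of_card_le rel a_ne (⊤ : Subgroup A) (Subgroup.mem_top _)
    (Subgroup.mem_top _) (Subgroup.mem_top _) (Subgroup.mem_top _) (Subgroup.mem_top _) (Subgroup.mem_top _)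
    (by rw [Subgroup.card_top]; exact card_le_A)
  rw [Subgroup.card_top] at h2
  exact ⟨h1.symm, h2, ⟨Subgroup.topEquiv.symm.trans e⟩⟩

theorem card_A : Nat.card A = 4245696 := iso.2.1

/-- the list -/
noncomputable def lst : List (A × Cl) := [
  (ev s (wr []), c0),
  (ev s (wr [4, 1]), c1),
  (ev s (wr [2]), c2),
  (ev s (wr [5, 3, 5, 3, 4]), c3),
  (ev s (wr [5, 1, 5, 2]), c4),
  (ev s (wr [5, 1, 5]), c5),
  (ev s (wr [1, 2, 5, 3, 5, 2, 1]), c6),
  (ev s (wr [1, 0]), c7),
  (ev s (wr [4, 0]), c8),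
  (ev s (wr [0]), c9),
  (ev s (wr [1, 5, 4, 1]), c10),
  (ev s (wr [5, 2, 1, 5, 0]), c11),
  (ev s (wr [5, 2]), c12),
  (ev s (wr [1, 5, 1]), c13),
  (ev s (wr [4, 5, 1]), c14),
  (ev s (wr [5, 3, 4]), c15),
  (ev s (wr [5, 3, 4, 0]), c16),
  (ev s (wr [5, 3, 4, 1]), c17),
  (ev s (wr [5]), c18),
  (ev s (wr [5, 4, 1]), c19),
  (ev s (wr [5, 3, 5, 4]), c20),
  (ev s (wr [5, 1]), c21),
  (ev s (wr [5, 4]), c22)]

theorem lst_Rp : ∀ p ∈ lst, Rp p.2.X p.1 := by
  intro p hp
  simp only [lst, List.mem_cons, List.not_mem_nil, or_false] at hp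
  rcases hp with rfl | rfl | rfl | rfl | rfl | rfl | rfl | rfl | rfl | rfl | rfl | rfl | rfl | rfl | rfl | rfl | rfl | rfl | rfl | rfl | rfl | rfl | rfl
  exacts [Rp.of_tb rp_s t0, Rp.of_tb rp_s t1, Rp.of_tb rp_s t2, Rp.of_tb rp_s t3, Rp.of_tb rp_s t4, Rp.of_tb rp_s t5, Rp.of_tb rp_s t6, Rp.of_tb rp_s t7, Rp.of_tb rp_s t8, Rp.of_tb rp_s t9, Rp.of_tb rp_s t10, Rp.of_tb rp_s t11, Rp.of_tb rp_s t12, Rp.of_tb rp_s t13, Rp.of_tb rp_s t14, Rp.of_tb rp_s t15, Rp.of_tb rp_s t16, Rp.of_tb rp_s t17, Rp.of_tb rp_s t18, Rp.of_tb rp_s t19, Rp.of_tb rp_s t20, Rp.of_tb rp_s t21, Rp.of_tb rp_s t22]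

theorem lst_run : ∀ p ∈ lst, run 364 co p.2.X p.2.m base p.2.l [] = true := by
  intro p hp
  simp only [lst, List.mem_cons, List.not_mem_nil, or_false] at hp
  rcases hp with rfl | rfl | rfl | rfl | rfl | rfl | rfl | rfl | rfl | rfl | rfl | rfl | rfl | rfl | rfl | rfl | rfl | rfl | rfl | rfl | rfl | rfl | rfl
  exacts [r0, r1, r2, r3, r4, r5, r6, r7, r8, r9, r10, r11, r12, r13, r14, r15, r16, r17, r18, r19, r20, r21, r22]

theorem lst_key : (lst.map fun p => ts.map (cnc 364 co p.2.X)).Nodup := by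
  show [ts.map (cnc 364 co c0.X), ts.map (cnc 364 co c1.X), ts.map (cnc 364 co c2.X), ts.map (cnc 364 co c3.X), ts.map (cnc 364 co c4.X), ts.map (cnc 364 co c5.X), ts.map (cnc 364 co c6.X), ts.map (cnc 364 co c7.X), ts.map (cnc 364 co c8.X), ts.map (cnc 364 co c9.X), ts.map (cnc 364 co c10.X), ts.map (cnc 364 co c11.X), ts.map (cnc 364 co c12.X), ts.map (cnc 364 co c13.X), ts.map (cnc 364 co c14.X), ts.map (cnc 364 co c15.X), ts.map (cnc 364 co c16.X), ts.map (cnc 364 co c17.X), ts.map (cnc 364 co c18.X), ts.map (cnc 364 co c19.X), ts.map (cnc 364 co c20.X), ts.map (cnc 364 co c21.X), ts.map (cnc 364 co c22.X)].Nodup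
  rw [k0, k1, k2, k3, k4, k5, k6, k7, k8, k9, k10, k11, k12, k13, k14, k15, k16, k17, k18, k19, k20, k21, k22]
  decide

theorem lst_sum : Nat.card A ≤ (lst.map fun p => Nat.card A / bd p.2.l).sum := by
  rw [card_A]
  show 4245696 ≤ [4245696 / bd c0.l, 4245696 / bd c1.l, 4245696 / bd c2.l, 4245696 / bd c3.l, 4245696 / bd c4.l, 4245696 / bd c5.l, 4245696 / bd c6.l, 4245696 / bd c7.l, 4245696 / bd c8.l, 4245696 / bd c9.l, 4245696 / bd c10.l, 4245696 / bd c11.l, 4245696 / bd c12.l, 4245696 / bd c13.l, 4245696 / bd c14.l, 4245696 / bd c15.l, 4245696 / bd c16.l, 4245696 / bd c17.l, 4245696 / bd c18.l, 4245696 / bd c19.l, 4245696 / bd c20.l, 4245696 / bd c21.l, 4245696 / bd c22.l].sum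
  decide +kernel

/-- **The 23 classes** -/
theorem classes (g : A) : ∃ v ∈ wv, IsConj (ev s (wr v)) g := by
  obtain ⟨p, hp, h⟩ := complete hbase ts lst lst_Rp lst_run lst_key lst_sum g
  simp only [lst, List.mem_cons, List.not_mem_nil, or_false] at hp
  rcases hp with rfl | rfl | rfl | rfl | rfl | rfl | rfl | rfl | rfl | rfl | rfl | rfl | rfl | rfl | rfl | rfl | rfl | rfl | rfl | rfl | rfl | rfl | rfl
  all_goals exact ⟨_, by decide, h⟩

theorem wr_eq (v : List ℕ) : ev s (wr v) = ev s wu * ev s v * (ev s wu)⁻¹ * (ev s v)⁻¹ := by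
  rw [wr, ev_append, ev_append, ev_append, ev_reverse s_sq, ev_reverse s_sq]

/-! ### Products of two elements of order prime to 6 -/

/-- `x = α * β`, `α ^ a = β ^ b = 1` -/
def six (X : ℕ → ℕ) (α : List ℕ) (a b : ℕ) : Bool :=
  bif (alb 364 fun q => Nat.beq (it (ap fl α) a q) q) then
    (alb 364 fun q => Nat.beq (it (fun p => ap fl α.reverse (X p)) b q) q) else false

theorem of_six {X : ℕ → ℕ} {x : A} (hX : Rp X x) {α : List ℕ} {a b : ℕ} (h : six X α a b = true)
    (ha : a.Coprime 6) (hb : b.Coprime 6) : Cfsg.Agent.H78.Pw.Pr 6 x := by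
  unfold six at h
  rcases h1 : (alb 364 fun q => Nat.beq (it (ap fl α) a q) q) with _ | _
  · rw [h1, cond_false] at h; cases h
  rw [h1, cond_true] at h
  have e1 : (ev s α) ^ a = 1 := pow_eq_one_of (Rp.ev rp_s α) h1
  have e2 : (ev s α.reverse * x) ^ b = 1 := by
    refine pow_eq_one_of (X := fun p => ap fl α.reverse (X p)) (fun q => ?_) h
    show (((ev s α.reverse : A) : Equiv.Perm (Fin 364)) ((x : Equiv.Perm (Fin 364)) q) : ℕ) = _
    rw [Rp.ev rp_s α.reverse, hX q]
  refine Cfsg.Agent.H78.Pw.Pr.mk (a := ev s α) (b := ev s α.reverse * x) ?_ ?_ ?_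
  · rw [ev_reverse s_sq, mul_inv_cancel_left]
  · exact Nat.Coprime.of_dvd_left (orderOf_dvd_of_pow_eq_one e1) ha
  · exact Nat.Coprime.of_dvd_left (orderOf_dvd_of_pow_eq_one e2) hb

theorem s0 : six c0.X [5, 2, 1] 13 13 = true := by decide +kernel
theorem s1 : six c1.X [5, 2, 1] 13 13 = true := by decide +kernel
theorem s2 : six c2.X [2, 5, 1, 0] 13 7 = true := by decide +kernel
theorem s3 : six c3.X [2, 5, 1] 13 13 = true := by decide +kernel
theorem s4 : six c4.X [5, 2, 1] 13 7 = true := by decide +kernel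
theorem s5 : six c5.X [5, 2, 1] 13 13 = true := by decide +kernel
theorem s6 : six c6.X [5, 2, 1] 13 13 = true := by decide +kernel
theorem s7 : six c7.X [5, 2, 1] 13 13 = true := by decide +kernel
theorem s8 : six c8.X [3, 2, 5, 0] 13 13 = true := by decide +kernel
theorem s9 : six c9.X [5, 1, 2] 13 7 = true := by decide +kernel
theorem s10 : six c10.X [5, 2, 1] 13 13 = true := by decide +kernel
theorem s11 : six c11.X [5, 2, 1] 13 7 = true := by decide +kernel
theorem s12 : six c12.X [5, 1, 2] 13 7 = true := by decide +kernel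
theorem s13 : six c13.X [2, 5, 1] 13 13 = true := by decide +kernel
theorem s14 : six c14.X [5, 2, 1] 13 13 = true := by decide +kernel
theorem s15 : six c15.X [2, 5, 1] 13 7 = true := by decide +kernel
theorem s16 : six c16.X [2, 1, 5] 13 13 = true := by decide +kernel
theorem s17 : six c17.X [2, 1, 5] 13 7 = true := by decide +kernel
theorem s18 : six c18.X [1, 5, 2] 13 7 = true := by decide +kernel
theorem s19 : six c19.X [5, 2, 1] 13 13 = true := by decide +kernel
theorem s20 : six c20.X [5, 1, 2] 13 13 = true := by decide +kernel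
theorem s21 : six c21.X [5, 2, 1] 13 13 = true := by decide +kernel
theorem s22 : six c22.X [2, 5, 1] 13 7 = true := by decide +kernel

theorem lst_six : ∀ p ∈ lst, Cfsg.Agent.H78.Pw.Pr 6 p.1 := by
  intro p hp
  have hR := lst_Rp p hp
  simp only [lst, List.mem_cons, List.not_mem_nil, or_false] at hp
  rcases hp with rfl | rfl | rfl | rfl | rfl | rfl | rfl | rfl | rfl | rfl | rfl | rfl | rfl | rfl | rfl | rfl | rfl | rfl | rfl | rfl | rfl | rfl | rfl
  exacts [of_six hR s0 (by decide) (by decide), of_six hR s1 (by decide) (by decide), of_six hR s2 (by decide) (by decide), of_six hR s3 (by decide) (by decide), of_six hR s4 (by decide) (by decide), of_six hR s5 (by decide) (by decide), of_six hR s6 (by decide) (by decide), of_six hR s7 (by decide) (by decide), of_six hR s8 (by decide) (by decide), of_six hR s9 (by decide) (by decide), of_six hR s10 (by decide) (by decide), of_six hR s11 (by decide) (by decide), of_six hR s12 (by decide) (by decide), of_six hR s13 (by decide) (by decide),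 of_six hR s14 (by decide) (by decide), of_six hR s15 (by decide) (by decide), of_six hR s16 (by decide) (by decide), of_six hR s17 (by decide) (by decide), of_six hR s18 (by decide) (by decide), of_six hR s19 (by decide) (by decide), of_six hR s20 (by decide) (by decide), of_six hR s21 (by decide) (by decide), of_six hR s22 (by decide) (by decide)]

theorem all_six : Cfsg.Agent.H78.Pw.All 6 A := by
  intro g
  obtain ⟨p, hp, h⟩ := complete hbase ts lst lst_Rp lst_run lst_key lst_sum g
  exact (lst_six p hp).of_isConj h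

theorem simple : IsSimpleGroup A := by
  obtain ⟨e⟩ := iso.2.2
  have := Cfsg.Agent.H845.GTwoIso.isSimple_chev
  exact e.isSimpleGroup

theorem not_comm : ¬ IsMulCommutative A := by
  intro hc
  exact ne_of (u := [0, 1]) (v := [1, 0]) 1 (by decide +kernel) (by
    rw [ev_cons, ev_cons, ev_nil, mul_one, ev_cons, ev_cons, ev_nil, mul_one]
    exact hc.is_comm.comm _ _)

theorem not_sq {p : ℕ} (hp : p.Prime) (h5 : 5 ≤ p) : ¬ p ^ 2 ∣ 4245696 := by
  intro hd
  have h1 : Nat.Coprime (p ^ 2) (6 ^ 6) := by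
    apply Nat.Coprime.pow
    rw [Nat.Prime.coprime_iff_not_dvd hp]
    intro h6
    have := Nat.le_of_dvd (by norm_num) h6
    interval_cases p <;> revert hp h6 <;> decide
  have h2 : p ^ 2 ∣ 6 ^ 6 * 91 := hd
  have h3 := h1.dvd_of_dvd_mul_left h2
  have h4 := Nat.le_of_dvd (by norm_num) h3
  have h5' : p ≤ 9 := by
    by_contra h
    have : 10 ^ 2 ≤ p ^ 2 := Nat.pow_le_pow_left (by omega) 2
    omega
  interval_cases p <;> revert hp h3 <;> decide

theorem pw : Cfsg.Agent.H78.Pw.Pw A := by
  refine Cfsg.Agent.H78.Pw.Pw.of all_six fun p hp h5 _ => ?_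
  have := simple
  refine Cfsg.Agent.H643.PwCnt.all_of_not_sq_dvd not_comm hp ?_
  rw [card_A]
  exact not_sq hp h5

/-- `Pw` for `G₂(q)`, `q = 3` -/
theorem pw_chev (F : Type) [Field F] [Fintype F] (hF : Fintype.card F = 3) :
    Cfsg.Agent.H78.Pw.Pw ↥(Lie.chevG2.group F) := by
  classical
  have σ : ZMod 3 ≃+* F := FiniteField.ringEquivOfCardEq (by rw [ZMod.card, hF])
  obtain ⟨e⟩ := iso.2.2
  exact pw.congr (e.trans (ChevalleyStructure.FieldIso.groupEquiv Lie.chevG2 σ))

end Cfsg.Agent.H347.HX.G23
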